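import Mathlib

/-! # Finite groups acting on a commutative ring: norms, coset sums, fixed points modulo a prime -/

namespace Groth.Agent.InvLib

open Polynomial

variable {B : Type*} [CommRing B] {Γ : Type*} [Group Γ] [MulSemiringAction Γ B]

/-- Sum over the cosets of `H` of the translates of `b`. -/
noncomputable def cosetSum (H : Subgroup Γ) [Fintype (Γ ⧸ H)] (b : B) : B :=
  ∑ c : Γ ⧸ H, c.out • b

theorem out_smul_eq {H : Subgroup Γ} {b : B} (hb : ∀ h ∈ H, h • b = b) (g : Γ) :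
    (QuotientGroup.mk g : Γ ⧸ H).out • b = g • b := by
  obtain ⟨h, hh⟩ := QuotientGroup.mk_out_eq_mul H g
  rw [hh, mul_smul, hb _ h.2]

theorem smul_cosetSum {H : Subgroup Γ} [Fintype (Γ ⧸ H)] {b : B} (hb : ∀ h ∈ H, h • b = b) (g : Γ) :
    g • cosetSum H b = cosetSum H b := by
  rw [cosetSum, Finset.smul_sum]
  refine Fintype.sum_equiv (MulAction.toPerm g) _ _ fun c => ?_
  induction c using QuotientGroup.induction_on with
  | H x =>
    rw [out_smul_eq hb, smul_smul]
    exact (out_smul_eq hb (g * x)).symm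

/-- Product of the translates of `b` over a finite subgroup. -/
noncomputable def norm (H : Subgroup Γ) [Fintype H] (b : B) : B := ∏ h : H, (h : Γ) • b

theorem smul_norm (H : Subgroup Γ) [Fintype H] (b : B) : ∀ g ∈ H, g • norm H b = norm H b := by
  intro g hg
  rw [norm, Finset.smul_prod']
  exact Fintype.prod_equiv (Equiv.mulLeft (⟨g, hg⟩ : H)) _ _ fun x => smul_smul g (x : Γ) b

theorem map_prod_X_sub (H : Subgroup Γ) [Fintype H] (g : Γ) (hg : g ∈ H) (b : B) :
    (∏ h : H, (X - C ((h : Γ) • b))).map (MulSemiringAction.toRingHom Γ B g) =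
      ∏ h : H, (X - C ((h : Γ) • b)) := by
  rw [Polynomial.map_prod]
  refine Fintype.prod_equiv (Equiv.mulLeft (⟨g, hg⟩ : H)) _ _ fun x => ?_
  rw [Polynomial.map_sub, map_X, map_C]
  exact congrArg (fun z => X - C z) (smul_smul g (x : Γ) b)

theorem coeff_prod_X_sub (H : Subgroup Γ) [Fintype H] (b : B) (i : ℕ) :
    ∀ g ∈ H, g • (∏ h : H, (X - C ((h : Γ) • b))).coeff i = (∏ h : H, (X - C ((h : Γ) • b))).coeff i := by
  intro g hg
  conv_rhs => rw [← map_prod_X_sub H g hg b]
  rw [coeff_map]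
  rfl

/-- An element congruent to `1` modulo `P` lying in all the other conjugates of the maximal ideal `P`. -/
theorem exists_sub_one_mem [Finite Γ] (P : Ideal B) [P.IsMaximal] :
    ∃ e : B, e - 1 ∈ P ∧ ∀ g : Γ, (¬ ∀ y : B, y ∈ P ↔ g • y ∈ P) → g • e ∈ P := by
  classical
  have : Fintype Γ := Fintype.ofFinite Γ
  let T : Finset Γ := Finset.univ.filter fun g => ¬ ∀ y : B, y ∈ P ↔ g • y ∈ P
  have h1 : ∀ g ∈ T, ∃ e : B, e - 1 ∈ P ∧ g • e ∈ P := by
    intro g hg
    let φ : B ≃+* B := MulSemiringAction.toRingEquiv Γ B g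
    let Q : Ideal B := P.comap φ
    have hQ : ¬ Q ≤ P := by
      intro hle
      have : Q.IsMaximal := Ideal.comap_isMaximal_of_surjective _ φ.surjective
      have hQP : Q = P := this.eq_of_le (Ideal.IsMaximal.ne_top ‹_›) hle
      exact (Finset.mem_filter.mp hg).2 fun y => ⟨fun hy => (hQP ▸ hy : y ∈ Q), fun hy => hQP ▸ (hy : y ∈ Q)⟩
    obtain ⟨q, hq, hqP⟩ := Set.not_subset.mp hQ
    obtain ⟨r, hr⟩ := Ideal.Quotient.maximal_ideal_iff_isField_quotient P |>.mp ‹_› |>.mul_inv_cancel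
      (mt Ideal.Quotient.eq_zero_iff_mem.mp hqP)
    obtain ⟨r, rfl⟩ := Ideal.Quotient.mk_surjective r
    refine ⟨q * r, (Ideal.Quotient.mk_eq_mk_iff_sub_mem _ _).mp (by simpa using hr), ?_⟩
    rw [smul_mul']
    exact P.mul_mem_right _ hq
  choose e he1 he2 using h1
  refine ⟨∏ g ∈ T.attach, e g.1 g.2, ?_, fun g hg => ?_⟩
  · rw [← Ideal.Quotient.mk_eq_mk_iff_sub_mem, map_prod, map_one]
    exact Finset.prod_eq_one fun g _ => by
      rw [← map_one (Ideal.Quotient.mk P), Ideal.Quotient.mk_eq_mk_iff_sub_mem]; exact he1 _ _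
  · have hgT : g ∈ T := Finset.mem_filter.mpr ⟨Finset.mem_univ _, hg⟩
    rw [Finset.smul_prod']
    exact Ideal.prod_mem _ (Finset.mem_attach _ ⟨g, hgT⟩) (he2 g hgT)

/-- The image of the invariants in the residue field at a maximal ideal is closed under inverses. -/
theorem exists_inv_mod (H : Subgroup Γ) [Fintype H] (P : Ideal B) [P.IsMaximal] (u : B)
    (hu : ∀ g ∈ H, g • u = u) (huP : u ∉ P) : ∃ v : B, (∀ g ∈ H, g • v = v) ∧ u * v - 1 ∈ P := by
  obtain ⟨r, hr⟩ := Ideal.Quotient.maximal_ideal_iff_isField_quotient P |>.mp ‹_› |>.mul_inv_cancel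
    (mt Ideal.Quotient.eq_zero_iff_mem.mp huP)
  obtain ⟨r, rfl⟩ := Ideal.Quotient.mk_surjective r
  let f : B[X] := ∏ h : H, (X - C ((h : Γ) • r))
  have hmon : f.Monic := monic_prod_of_monic _ _ fun h _ => monic_X_sub_C _
  have hroot : f.eval r = 0 := by
    rw [eval_prod]
    exact Finset.prod_eq_zero (Finset.mem_univ (1 : H)) (by simp)
  set n := f.natDegree
  refine ⟨-∑ i ∈ Finset.range n, f.coeff i * u ^ (n - i - 1), fun g hg => ?_, ?_⟩
  · rw [smul_neg, Finset.smul_sum]
    simp only [smul_mul', smul_pow', hu g hg, f, coeff_prod_X_sub H r _ g hg]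
  · rw [← Ideal.Quotient.mk_eq_mk_iff_sub_mem]
    have h0 := congrArg (fun z => Ideal.Quotient.mk P (u ^ n * z)) hroot
    simp only [eval_eq_sum_range, mul_zero, map_zero, Finset.sum_range_succ] at h0
    rw [show f.coeff n = 1 from hmon.coeff_natDegree, one_mul] at h0
    simp only [map_mul, map_add, map_sum, map_pow, mul_add, Finset.mul_sum] at h0
    rw [← mul_pow, hr, one_pow] at h0
    simp only [map_mul, map_neg, map_sum, map_pow, map_one, Finset.mul_sum, mul_neg]
    rw [neg_eq_iff_add_eq_zero]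
    refine Eq.trans ?_ h0
    refine congrArg (· + 1) (Finset.sum_congr rfl fun i hi => ?_)
    obtain ⟨j, hj⟩ : ∃ j, n = i + (j + 1) := ⟨n - i - 1, by have := Finset.mem_range.mp hi; omega⟩
    rw [show n - i - 1 = j by omega, hj, pow_add, pow_succ']
    calc Ideal.Quotient.mk P u * (Ideal.Quotient.mk P (f.coeff i) * Ideal.Quotient.mk P u ^ j) =
        Ideal.Quotient.mk P (f.coeff i) * (Ideal.Quotient.mk P u * Ideal.Quotient.mk P u ^ j) *
          (Ideal.Quotient.mk P u * Ideal.Quotient.mk P r) ^ i := by rw [hr, one_pow]; ring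
      _ = _ := by ring

/-- An `H`-fixed element which is fixed modulo `P` by the decomposition group is congruent to an invariant,
provided the decomposition group modulo `H` acts faithfully on the `H`-fixed elements modulo `P`. -/
theorem exists_fixed_sub_mem [Finite Γ] (P : Ideal B) [P.IsMaximal] (H : Subgroup Γ)
    (hH : ∀ h ∈ H, ∀ y : B, y ∈ P ↔ h • y ∈ P)
    (hfaith : ∀ g : Γ, (∀ y : B, y ∈ P ↔ g • y ∈ P) →
      (∀ b : B, (∀ h ∈ H, h • b = b) → g • b - b ∈ P) → g ∈ H)
    (z : B) (hz : ∀ h ∈ H, h • z = z) (hzD : ∀ g : Γ, (∀ y : B, y ∈ P ↔ g • y ∈ P) → g • z - z ∈ P) :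
    ∃ c : B, (∀ g : Γ, g • c = c) ∧ z - c ∈ P := by
  classical
  have : Fintype H := Fintype.ofFinite H
  have : Fintype (Γ ⧸ H) := Fintype.ofFinite _
  have : Fintype (⊤ : Subgroup Γ) := Fintype.ofFinite _
  let π := Ideal.Quotient.mk P
  let F : Submonoid B :=
    { carrier := {b | ∀ h ∈ H, h • b = b}
      mul_mem' := fun {a b} ha hb h hh => by rw [smul_mul', ha h hh, hb h hh]
      one_mem' := fun h _ => smul_one h }
  let χ : Γ ⧸ H → (F →* B ⧸ P) := fun c =>
    (π.toMonoidHom.comp (MulSemiringAction.toRingHom Γ B c.out).toMonoidHom).comp F.subtype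
  have hχ : ∀ c (b : F), χ c b = π (c.out • (b : B)) := fun _ _ => rfl
  let S : Finset (Γ ⧸ H) := Finset.univ.filter fun c => ∀ y : B, y ∈ P ↔ c.out • y ∈ P
  have hinj : Set.InjOn χ S := by
    intro c hc c' hc' he
    have hc1 := (Finset.mem_filter.mp hc).2
    have hc2 := (Finset.mem_filter.mp hc').2
    rw [← c.out_eq', ← c'.out_eq', QuotientGroup.eq]
    refine hfaith _ (fun y => ?_) fun b hb => ?_
    · rw [mul_smul, hc1 (c.out⁻¹ • (c'.out • y)), smul_inv_smul]
      exact hc2 y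
    · rw [hc1, smul_sub, smul_smul, mul_inv_cancel_left]
      have := DFunLike.congr_fun he ⟨b, hb⟩
      simp only [hχ] at this
      exact (Ideal.Quotient.mk_eq_mk_iff_sub_mem _ _).mp this.symm
  have hSne : S.Nonempty := by
    refine ⟨QuotientGroup.mk (1 : Γ), Finset.mem_filter.mpr ⟨Finset.mem_univ _, ?_⟩⟩
    obtain ⟨h, hh⟩ := QuotientGroup.mk_out_eq_mul H (1 : Γ)
    intro y
    rw [hh, one_mul]
    exact hH h h.2 y
  obtain ⟨w, hw⟩ : ∃ w : F, ∑ c ∈ S, χ c w ≠ 0 := by
    by_contra! hc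
    obtain ⟨c, hc'⟩ := hSne
    have := Ideal.Quotient.nontrivial_iff.mpr (Ideal.IsMaximal.ne_top (I := P) inferInstance)
    refine one_ne_zero (linearIndependent_iff'.mp (linearIndependent_monoidHom F (B ⧸ P)) (S.image χ)
      (fun _ => 1) ?_ (χ c) (Finset.mem_image_of_mem _ hc'))
    simp only [one_smul]
    rw [Finset.sum_image hinj]
    exact funext fun b => (Finset.sum_apply b S _).trans (hc b)
  obtain ⟨e₀, he₀, he₀'⟩ := exists_sub_one_mem (Γ := Γ) P
  let e := norm H e₀
  have he : ∀ g : Γ, π (g • e) = if (∀ y : B, y ∈ P ↔ g • y ∈ P) then 1 else 0 := by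
    intro g
    rw [show g • e = ∏ h : H, g • ((h : Γ) • e₀) from Finset.smul_prod', map_prod]
    split_ifs with hg
    · refine Finset.prod_eq_one fun h _ => ?_
      rw [← map_one π, Ideal.Quotient.mk_eq_mk_iff_sub_mem]
      have h1 := (hg _).mp ((hH h h.2 _).mp he₀)
      rwa [smul_sub, smul_sub, smul_one, smul_one] at h1
    · refine Finset.prod_eq_zero (Finset.mem_univ (1 : H)) (Ideal.Quotient.eq_zero_iff_mem.mpr ?_)
      simpa using he₀' g hg
  have hsum : ∀ b : B, (hb : ∀ h ∈ H, h • b = b) → π (cosetSum H (b * e)) = ∑ c ∈ S, π (c.out • b) := by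
    intro b _
    simp only [cosetSum, map_sum, smul_mul', map_mul, he, mul_ite, mul_one, mul_zero, S, Finset.sum_filter]
  have hfix : ∀ b : B, (∀ h ∈ H, h • b = b) → ∀ g : Γ, g • cosetSum H (b * e) = cosetSum H (b * e) := fun b hb g =>
    smul_cosetSum (fun h hh => by rw [smul_mul', hb h hh, smul_norm H e₀ h hh]) g
  have hu : π (cosetSum H ((w : B) * e)) = ∑ c ∈ S, χ c w := hsum _ w.2
  obtain ⟨v, hv, huv⟩ := exists_inv_mod (⊤ : Subgroup Γ) P (cosetSum H ((w : B) * e))
    (fun g _ => hfix _ w.2 g) fun h => hw (hu ▸ Ideal.Quotient.eq_zero_iff_mem.mpr h)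
  have hzw : ∀ h ∈ H, h • (z * (w : B)) = z * (w : B) := fun h hh => by rw [smul_mul', hz h hh, w.2 h hh]
  refine ⟨cosetSum H (z * (w : B) * e) * v, fun g => by rw [smul_mul', hfix _ hzw, hv g trivial], ?_⟩
  rw [← Ideal.Quotient.mk_eq_mk_iff_sub_mem, map_mul]
  have h1 : π (cosetSum H (z * (w : B) * e)) = π z * π (cosetSum H ((w : B) * e)) := by
    rw [hsum _ hzw, hsum _ w.2, Finset.mul_sum]
    refine Finset.sum_congr rfl fun c hc => ?_
    rw [smul_mul', map_mul]
    congr 1
    exact (Ideal.Quotient.mk_eq_mk_iff_sub_mem _ _).mpr (hzD _ (Finset.mem_filter.mp hc).2)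
  rw [h1, mul_assoc, ← map_mul π, (Ideal.Quotient.mk_eq_mk_iff_sub_mem _ _).mpr huv, map_one, mul_one]

/-- Two homomorphisms into a domain agreeing on the invariants differ by an element of the group. -/
theorem exists_smul_eq_of_eqOn_fixed {L : Type*} [CommRing L] [IsDomain L] (H : Subgroup Γ) [Fintype H]
    (φ ψ : B →+* L) (h : ∀ x, (∀ g ∈ H, g • x = x) → φ x = ψ x) :
    ∃ g ∈ H, ∀ x, φ (g • x) = ψ x := by
  classical
  by_contra! hc
  choose w hw using hc
  let W : Fin (Fintype.card H) → B := fun i => w _ ((Fintype.equivFin H).symm i).2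
  let p : B[X] := ∑ i : Fin (Fintype.card H), monomial (i : ℕ) (W i)
  let act : Γ → (B[X] →+* B[X]) := fun g => mapRingHom (MulSemiringAction.toRingHom Γ B g)
  let F : Polynomial B[X] := ∏ g : H, (X - C (act g p))
  have hF : ∀ g ∈ H, F.map (act g) = F := by
    intro g hg
    rw [Polynomial.map_prod]
    refine Fintype.prod_equiv (Equiv.mulLeft (⟨g, hg⟩ : H)) _ _ fun x => ?_
    rw [Polynomial.map_sub, map_X, map_C]
    have e : act g (act (x : Γ) p) = act ((Equiv.mulLeft (⟨g, hg⟩ : H) x : H) : Γ) p :=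
      Polynomial.ext fun i => by simp [act, smul_smul]
    rw [e]
  have heq : F.map (mapRingHom φ) = F.map (mapRingHom ψ) := by
    refine Polynomial.ext fun i => Polynomial.ext fun j => ?_
    simp only [coeff_map, coe_mapRingHom]
    refine h _ fun g hg => ?_
    conv_rhs => rw [← hF g hg]
    simp [act]
  have hz : (F.map (mapRingHom ψ)).eval (p.map ψ) = 0 := by
    rw [Polynomial.map_prod, eval_prod]
    refine Finset.prod_eq_zero (Finset.mem_univ (1 : H)) ?_
    have : act (1 : Γ) p = p := Polynomial.ext fun i => by simp [act]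
    simp [this]
  rw [← heq, Polynomial.map_prod, eval_prod, Finset.prod_eq_zero_iff] at hz
  obtain ⟨g, -, hg⟩ := hz
  simp only [Polynomial.map_sub, map_X, map_C, eval_sub, eval_X, eval_C, sub_eq_zero, coe_mapRingHom] at hg
  have := congrArg (fun q => q.coeff ((Fintype.equivFin H g : Fin _) : ℕ)) hg
  simp only [act, coe_mapRingHom, coeff_map, p, finsetSum_coeff, coeff_monomial, Fin.val_inj,
    Finset.sum_ite_eq', Finset.mem_univ, if_true] at this
  refine hw g g.2 ?_
  simpa [W] using this.symm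

end Groth.Agent.InvLib
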